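import Groth.Agent.Fibre38.BcSplit

/-! The splitting of a geometric fibre. -/

set_option autoImplicit false
set_option linter.style.haveILetI false

universe u

open CategoryTheory CategoryTheory.Limits AlgebraicGeometry MonoidalCategory CartesianMonoidalCategory
open scoped MonObj

noncomputable section

namespace Groth.Agent.Fibre38

open GrpSchLib DSPtsLib BigCell29

variable {K L : Type u} [Field K] [Field L] (f : Spec (CommRingCat.of L) ⟶ Spec (CommRingCat.of K)) [IsIso f]

/-- Base change back along the inverse. -/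
def invComp {A B : Scheme.{u}} (g : A ⟶ B) [IsIso g] : Over.pullback g ⋙ Over.pullback (inv g) ≅ 𝟭 (Over B) :=
  (Over.pullbackComp (inv g) g).symm ≪≫ eqToIso (congrArg (fun m => Over.pullback m) (IsIso.inv_hom_id g)) ≪≫
    Over.pullbackId

theorem isMonHom_invComp {A B : Scheme.{u}} (g : A ⟶ B) [IsIso g] (X : Over B) [GrpObj X] :
    IsMonHom (M := Red.bc (inv g) (Red.bc g X)) (N := X) ((invComp g).hom.app X) :=
  (((Functor.mapGrpCompIso).symm ≪≫ Functor.mapGrpNatIso (invComp g) ≪≫ Functor.mapGrpIdIso).app (Grp.mk X)).hom.hom.isMonHom_hom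

theorem isIso_hom_of_bc {A B : Scheme.{u}} (g : A ⟶ B) [IsIso g] (X : Over B)
    (h : IsIso (Red.bc g X).hom) : IsIso X.hom := by
  have e : (Red.bc g X).hom ≫ g = pullback.fst X.hom g ≫ X.hom := pullback.condition.symm
  haveI := h
  haveI : IsIso (pullback.fst X.hom g ≫ X.hom) := e ▸ inferInstance
  exact IsIso.of_isIso_comp_left (pullback.fst X.hom g) X.hom

/-- Reductivity over a field is invariant under isomorphisms of the field. -/
theorem isReductiveOver_bc {X : Over (Spec (CommRingCat.of K))} [GrpObj X] (h : Red.IsReductiveOver K X) :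
    Red.IsReductiveOver L (Red.bc f X) := by
  obtain ⟨hA, hS, hC, hN⟩ := h
  haveI := hA; haveI := hS; haveI := hC
  haveI : IsIso (pullback.fst X.hom f) := inferInstance
  refine ⟨IsAffine.of_isIso (pullback.fst X.hom f), inferInstanceAs (Smooth (pullback.snd X.hom f)),
    (Scheme.homeoOfIso (asIso (pullback.fst X.hom f))).symm.surjective.connectedSpace
      (Scheme.homeoOfIso (asIso (pullback.fst X.hom f))).symm.continuous, fun U _ i _ hi hsm hconn hnorm hno => ?_⟩
  haveI := hi; haveI := hsm; haveI := hconn
  let g' := inv f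
  let U' := Red.bc g' U
  haveI := isMonHom_invComp f X
  let i' : U' ⟶ X := (Over.pullback g').map i ≫ (invComp f).hom.app X
  haveI : IsMonHom i' := SgaFix20.isMonHom_comp (Y := Red.bc g' (Red.bc f X)) _ _ inferInstance (isMonHom_invComp f X)
  haveI hiso : IsIso ((invComp f).hom.app X).left :=
    inferInstanceAs (IsIso ((Over.forget _).map ((invComp f).hom.app X)))
  haveI : IsClosedImmersion ((Over.pullback g').map i).left := BigCell29.isClosedImmersion_map g' i
  have hi' : IsClosedImmersion i'.left := by
    show IsClosedImmersion (((Over.pullback g').map i).left ≫ ((invComp f).hom.app X).left)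
    infer_instance
  haveI : IsIso (pullback.fst U.hom g') := inferInstance
  have hsm' : Smooth U'.hom := inferInstanceAs (Smooth (pullback.snd U.hom g'))
  have hconn' : ConnectedSpace U'.left :=
    (Scheme.homeoOfIso (asIso (pullback.fst U.hom g'))).symm.surjective.connectedSpace
      (Scheme.homeoOfIso (asIso (pullback.fst U.hom g'))).symm.continuous
  have hnorm' : AlgGrp.IsNormalHom i' := by
    intro T a n
    let a2 : T ⟶ Red.bc g' (Red.bc f X) := a ≫ (invComp f).inv.app X
    let w : Red.bc g' (Red.bc f X) ⟶ X := (invComp f).hom.app X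
    haveI : IsMonHom w := isMonHom_invComp f X
    have ha2 : a2 ≫ w = a := by
      show (a ≫ (invComp f).inv.app X) ≫ (invComp f).hom.app X = a
      rw [Category.assoc, Iso.inv_hom_id_app]
      exact Category.comp_id a
    obtain ⟨n', hn'⟩ := hnorm ((Over.map g').obj T) (theta g' a2) (theta g' n)
    refine ⟨lift' g' n', ?_⟩
    have e : a2 * (n ≫ (Over.pullback g').map i) * a2⁻¹ = lift' g' n' ≫ (Over.pullback g').map i :=
      (theta_bijective g').injective (by
        rw [theta_mul, theta_mul, theta_inv, theta_map, theta_map, theta_lift', hn'])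
    have e' := congrArg (· ≫ w) e
    rw [MonObj.mul_comp, MonObj.mul_comp, GrpObj.inv_comp, ha2] at e'
    simp only [Category.assoc] at e'
    exact e'
  have hno' : Red.HasNoSubtorus K U' := by
    intro T _ j _ _ hT
    haveI : (Over.pullback f).PreservesMonomorphisms :=
      Functor.preservesMonomorphisms_of_adjunction (Over.mapPullbackAdj f)
    let Ψ : Over.pullback g' ⋙ Over.pullback f ≅ 𝟭 _ :=
      (Over.pullbackComp f g').symm ≪≫ eqToIso (congrArg (fun m => Over.pullback m) (IsIso.hom_inv_id f)) ≪≫
        Over.pullbackId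
    haveI hΨ : IsMonHom (M := Red.bc f (Red.bc g' U)) (N := U) (Ψ.hom.app U) :=
      (((Functor.mapGrpCompIso).symm ≪≫ Functor.mapGrpNatIso Ψ ≪≫ Functor.mapGrpIdIso).app (Grp.mk U)).hom.hom.isMonHom_hom
    haveI : IsIso (Ψ.hom.app U) := inferInstance
    let j' : Red.bc f T ⟶ U := (Over.pullback f).map j ≫ Ψ.hom.app U
    haveI : IsMonHom j' := SgaFix20.isMonHom_comp (Y := Red.bc f (Red.bc g' U)) _ _ inferInstance hΨ
    haveI : Mono j' := mono_comp _ _
    exact isIso_hom_of_bc f T (hno (Red.bc f T) j' (RedSub30.TorusAbsorb.isTorus_bc f hT))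
  exact isIso_hom_of_bc g' U (hN U' i' hi' hsm' hconn' hnorm' hno')

variable {S : Scheme.{u}} {G : Over S} [GrpObj G]

/-- The comparison of the geometric fibre of a geometric fibre with the fibre itself. -/
def fibreHomeo (s : S) (s' : Spec (CommRingCat.of (AlgebraicClosure (S.residueField s)))) :
    (Red.geomFibre s' (Red.geomFibre s G)).left ≅ (Red.geomFibre s G).left :=
  haveI := MaxTorusLib.isIso_geomPt s'
  asIso (pullback.fst (Red.geomFibre s G).hom (Red.geomPt s'))

theorem isReductive_geomFibre (hG : Red.IsReductive G) (s : S) : Red.IsReductive (Red.geomFibre s G) := by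
  obtain ⟨hA, hS, hF⟩ := hG
  haveI := hA; haveI := hS
  refine ⟨inferInstanceAs (IsAffineHom (pullback.snd G.hom (Red.geomPt s))),
    inferInstanceAs (Smooth (pullback.snd G.hom (Red.geomPt s))), fun s' => ?_⟩
  haveI := MaxTorusLib.isIso_geomPt s'
  exact isReductiveOver_bc (Red.geomPt s') (hF s)

/-- The splitting of a geometric fibre of a split group. -/
def geomSplit (D : Red.SplitRed G) (s : S) : Red.SplitRed (Red.geomFibre s G) :=
  bcSplit (Red.geomPt s) D (isReductive_geomFibre D.reductive s)
    (MaxTorusLib.isMaximalTorus_geomFibre D.maximalTorus s) fun s' => by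
      rw [← D.dim_fibre s]
      exact (Scheme.homeoOfIso (fibreHomeo (G := G) s s')).isHomeomorph.topologicalKrullDim_eq

/-- The splitting of a geometric fibre has the root datum of the splitting. -/
theorem geomSplit_P (D : Red.SplitRed G) (s : S) : (geomSplit D s).P = D.P := rfl

end Groth.Agent.Fibre38
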