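import Groth.Agent.Rank2Red38.Conj
import Groth.Agent.BigCell29.Bridge

/-! Base change of split tori and of the additive group, on points. -/

set_option autoImplicit false
set_option linter.style.haveILetI false

universe u

open CategoryTheory CategoryTheory.Limits AlgebraicGeometry MonoidalCategory CartesianMonoidalCategory
open scoped MonObj

noncomputable section

namespace Groth.Agent.Fibre38

open GrpSchLib Rank2Red38 DSPtsLib

variable {S U : Scheme.{u}} (g : U ⟶ S)

/-- A point of a base change given by a point over the old base. -/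
def lift' {Y : Over U} {H : Over S} (a : (Over.map g).obj Y ⟶ H) : Y ⟶ Red.bc g H :=
  (Over.mapPullbackAdj g).homEquiv Y H a

theorem theta_lift' {Y : Over U} {H : Over S} (a : (Over.map g).obj Y ⟶ H) : theta g (lift' g a) = a :=
  ((Over.mapPullbackAdj g).homEquiv Y H).symm_apply_apply a

theorem theta_one {Y : Over U} {H : Over S} [GrpObj H] : theta g (1 : Y ⟶ Red.bc g H) = 1 := by
  have h := theta_mul g (1 : Y ⟶ Red.bc g H) 1
  rw [one_mul] at h
  exact left_eq_mul.mp h

theorem theta_inv {Y : Over U} {H : Over S} [GrpObj H] (a : Y ⟶ Red.bc g H) :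
    theta g a⁻¹ = (theta g a)⁻¹ :=
  eq_inv_of_mul_eq_one_left (by rw [← theta_mul, inv_mul_cancel, theta_one])

theorem isMonHom_of_mul {V : Scheme.{u}} {A B : Over V} [GrpObj A] [GrpObj B] (φ : A ⟶ B)
    (h : ∀ (X : Over V) (a b : X ⟶ A), (a * b) ≫ φ = (a ≫ φ) * (b ≫ φ)) : IsMonHom φ := by
  refine ⟨?_, ?_⟩
  · have h1 : (1 : 𝟙_ (Over V) ⟶ A) ≫ φ = 1 := by
      have h2 := h (𝟙_ (Over V)) 1 1
      rw [one_mul] at h2
      exact left_eq_mul.mp h2
    rwa [Hom.one_def, Hom.one_def, toUnit_unit, Category.id_comp, Category.id_comp] at h1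
  · have h1 := h _ (fst A A) (snd A A)
    simpa [Hom.mul_def, lift_fst_snd] using h1

section Torus

variable (M : Type) [AddCommGroup M]

/-- The map from the base change of a split torus. -/
def dsFwd : Red.bc g (Red.DS S M) ⟶ Red.DS U M :=
  Over.homMk (pullback.lift (pullback.fst (Red.DS S M).hom g ≫ pullback.fst _ _) (pullback.snd (Red.DS S M).hom g)
      (specULiftZIsTerminal.hom_ext _ _))
    (pullback.lift_snd _ _ _)

/-- The map to the base change of a split torus. -/
def dsBwd : Red.DS U M ⟶ Red.bc g (Red.DS S M) :=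
  lift' g (Over.homMk (pullback.lift (pullback.fst _ _) ((Red.DS U M).hom ≫ g) (specULiftZIsTerminal.hom_ext _ _))
    (pullback.lift_snd _ _ _))

variable {M}

theorem dsVal_dsFwd {Y : Over U} (t : Y ⟶ Red.bc g (Red.DS S M)) (m : M) :
    dsVal (t ≫ dsFwd g M) m = dsVal (theta g t) m := by
  have h : dsPt (t ≫ dsFwd g M) = dsPt (theta g t) := by
    show (t.left ≫ pullback.lift _ _ _) ≫ pullback.fst _ _ = (t.left ≫ pullback.fst _ _) ≫ pullback.fst _ _
    rw [Category.assoc, pullback.lift_fst, Category.assoc]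
  exact congrArg (fun z : Y.left ⟶ Spec (CommRingCat.of (DCoord.{u} M)) =>
    ((Scheme.ΓSpecIso (CommRingCat.of (DCoord.{u} M))).inv ≫ z.appTop).hom (mono m)) h

theorem dsVal_dsBwd {Y : Over U} (t : Y ⟶ Red.DS U M) (m : M) :
    dsVal (theta g (t ≫ dsBwd g M)) m = dsVal t m := by
  have h : dsPt (theta g (t ≫ dsBwd g M)) = dsPt t := by
    rw [dsBwd, theta_comp, theta_lift']
    show (t.left ≫ pullback.lift _ _ _) ≫ pullback.fst _ _ = t.left ≫ pullback.fst _ _
    rw [Category.assoc, pullback.lift_fst]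
  exact congrArg (fun z : Y.left ⟶ Spec (CommRingCat.of (DCoord.{u} M)) =>
    ((Scheme.ΓSpecIso (CommRingCat.of (DCoord.{u} M))).inv ≫ z.appTop).hom (mono m)) h

variable (M) in
theorem isMonHom_dsFwd : IsMonHom (dsFwd g M) :=
  isMonHom_of_mul _ fun X a b => ds_ext fun m => by
    haveI : IsMonHom (Red.chi U m) := S5427.isMonHom_DSmap U _
    haveI : IsMonHom (Red.chi S m) := S5427.isMonHom_DSmap S _
    rw [dsVal_mul, dsVal_dsFwd, dsVal_dsFwd, dsVal_dsFwd, theta_mul, dsVal_mul]

variable (M) in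
/-- The base change of a split torus. -/
def dsIso : Red.bc g (Red.DS S M) ≅ Red.DS U M where
  hom := dsFwd g M
  inv := dsBwd g M
  hom_inv_id := (theta_bijective g).injective (ds_ext fun m => by
    rw [dsVal_dsBwd]; exact (congrArg (dsVal · m) (Category.id_comp _).symm).trans (dsVal_dsFwd g (𝟙 _) m))
  inv_hom_id := ds_ext fun m => by
    rw [dsVal_dsFwd]
    exact (congrArg (fun z => dsVal (theta g z) m) (Category.id_comp _).symm).trans (dsVal_dsBwd g (𝟙 _) m)

end Torus

/-- The additive group over the new base maps to the base change of the additive group. -/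
def gaBwd : Red.Ga U ⟶ Red.bc g (Red.Ga S) :=
  lift' g (GaPts.ptOfFn (T := (Over.map g).obj (Red.Ga U)) (Red.gaFn (X := Red.Ga U) (𝟙 (Red.Ga U))))

theorem gaFn_gaBwd {Y : Over U} (x : Y ⟶ Red.Ga U) : Red.gaFn (theta g (x ≫ gaBwd g)) = Red.gaFn x := by
  rw [gaBwd, theta_comp, theta_lift', GaPts.gaFn_comp, GaPts.gaFn_ptOfFn,
    show ((Over.map g).map x).left.appTop (Red.gaFn (X := Red.Ga U) (𝟙 (Red.Ga U))) = x.left.appTop (Red.gaFn (X := Red.Ga U) (𝟙 (Red.Ga U))) from rfl,
    ← GaPts.gaFn_comp, Category.comp_id]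

theorem isMonHom_gaBwd : IsMonHom (gaBwd g) :=
  isMonHom_of_mul _ fun X a b => (theta_bijective g).injective (GaPts.gaFn_injective (by
    show Red.gaFn _ = Red.gaFn _
    rw [theta_mul, GaPts.gaFn_mul, gaFn_gaBwd, gaFn_gaBwd, gaFn_gaBwd, GaPts.gaFn_mul]))

/-- The base change of the additive group maps to the additive group. -/
def gaFwd : Red.bc g (Red.Ga S) ⟶ Red.Ga U :=
  GaPts.ptOfFn (T := Red.bc g (Red.Ga S))
    (Red.gaFn (X := (Over.map g).obj (Red.bc g (Red.Ga S))) (theta g (𝟙 (Red.bc g (Red.Ga S)))))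

theorem gaFn_gaFwd {Y : Over U} (a : Y ⟶ Red.bc g (Red.Ga S)) :
    Red.gaFn (a ≫ gaFwd g) = Red.gaFn (theta g a) := by
  rw [gaFwd, GaPts.gaFn_comp, GaPts.gaFn_ptOfFn]
  conv_rhs => rw [← Category.comp_id a, theta_comp, GaPts.gaFn_comp]
  rfl

instance isIso_gaBwd : IsIso (gaBwd g) :=
  ⟨gaFwd g, GaPts.gaFn_injective (by
      show Red.gaFn _ = Red.gaFn _
      rw [gaFn_gaFwd, ← Category.id_comp (gaBwd g), gaFn_gaBwd]),
    (theta_bijective g).injective (GaPts.gaFn_injective (by
      show Red.gaFn _ = Red.gaFn _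
      rw [gaFn_gaBwd, ← Category.id_comp (gaFwd g), gaFn_gaFwd]))⟩

end Groth.Agent.Fibre38
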