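import Groth.Agent.Fibre38.BcPts
import Groth.Agent.RedSub30.TorusAbsorb
import Groth.Agent.MaxTorusLib.Basic

/-! Base change of a splitting. -/

set_option autoImplicit false
set_option linter.style.haveILetI false

universe u

open CategoryTheory CategoryTheory.Limits AlgebraicGeometry MonoidalCategory CartesianMonoidalCategory
open scoped MonObj

noncomputable section

namespace Groth.Agent.Fibre38

open GrpSchLib Rank2Red38 DSPtsLib BigCell29

variable {S U : Scheme.{u}} (g : U ⟶ S) {G : Over S} [GrpObj G] (D : Red.SplitRed G)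

/-- The splitting of the base change of the torus. -/
def bcTorusSplit : Grp.mk (Red.bc g D.T) ≅ Grp.mk (Red.DS U D.M) :=
  haveI := isMonHom_dsFwd g D.M
  haveI : IsMonHom (dsIso g D.M).hom := this
  (Over.pullback g).mapGrp.mapIso D.split ≪≫ Grp.mkIso' (dsIso g D.M)

theorem dsVal_bcTorusSplit {Y : Over U} (t : Y ⟶ Red.bc g D.T) (m : D.M) :
    dsVal (t ≫ (bcTorusSplit g D).hom.hom.hom) m = dsVal (theta g t ≫ D.split.hom.hom.hom) m := by
  show dsVal (t ≫ (Over.pullback g).map D.split.hom.hom.hom ≫ dsFwd g D.M) m = _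
  rw [← Category.assoc, dsVal_dsFwd, theta_map]

/-- The base change of a root homomorphism. -/
def bcU (a : D.idx) : Red.Ga U ⟶ Red.bc g G := gaBwd g ≫ (Over.pullback g).map (D.u a)

theorem theta_bcU (a : D.idx) {Y : Over U} (x : Y ⟶ Red.Ga U) :
    theta g (x ≫ bcU g D a) = Rank2Red38.U D ((Over.map g).obj Y) a (Red.gaFn (X := Y) x) := by
  rw [bcU, ← Category.assoc, theta_map, Rank2Red38.pt_comp_eq, gaFn_gaBwd]

theorem theta_bcI {Y : Over U} (t : Y ⟶ Red.bc g D.T) :
    theta g (t ≫ (Over.pullback g).map D.i) = theta g t ≫ D.i := theta_map g t D.i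

theorem gmFn_bcRoot (a : D.idx) {Y : Over U} (t : Y ⟶ Red.bc g D.T) :
    Red.gmFn (t ≫ (bcTorusSplit g D).hom.hom.hom ≫ Red.chi U (D.P.root a)) =
      Red.gmFn (theta g t ≫ D.split.hom.hom.hom ≫ Red.chi S (D.P.root a)) := by
  rw [← Category.assoc, ← Category.assoc, gmFn_chi, gmFn_chi, dsVal_bcTorusSplit]

theorem isRootHom_bcU (a : D.idx) : Red.IsRootHom ((Over.pullback g).map D.i)
    ((bcTorusSplit g D).hom.hom.hom ≫ Red.chi U (D.P.root a)) (bcU g D a) := by
  haveI := (D.rootHom a).1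
  haveI := (D.rootHom a).2.1
  haveI := isMonHom_gaBwd g
  haveI : IsIso (gaBwd g).left := inferInstanceAs (IsIso ((Over.forget _).map (gaBwd g)))
  haveI : IsClosedImmersion ((Over.pullback g).map (D.u a)).left := BigCell29.isClosedImmersion_map g (D.u a)
  refine ⟨?_, ?_, fun Y t x => ?_⟩
  · unfold bcU; infer_instance
  · show IsClosedImmersion ((gaBwd g).left ≫ ((Over.pullback g).map (D.u a)).left)
    infer_instance
  · obtain ⟨y, h1, h2⟩ := (D.rootHom a).2.2 ((Over.map g).obj Y) (theta g t) (theta g (x ≫ gaBwd g))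
    refine ⟨GaPts.ptOfFn (T := Y) (Red.gaFn (X := (Over.map g).obj Y) y), (theta_bijective g).injective ?_, ?_⟩
    · rw [theta_bcU, theta_mul, theta_mul, theta_inv, theta_bcI, theta_bcU, GaPts.gaFn_ptOfFn]
      refine (Rank2Red38.pt_comp_eq D a y).symm.trans (h1.trans ?_)
      rw [Rank2Red38.pt_comp_eq, gaFn_gaBwd]
    · rw [GaPts.gaFn_ptOfFn, h2, gaFn_gaBwd, gmFn_bcRoot]

theorem bcRefl (a : D.idx) : ∃ n : 𝟙_ (Over U) ⟶ Red.bc g G, ∀ (X : Over U) (t : X ⟶ Red.bc g D.T),
    (toUnit X ≫ n) * (t ≫ (Over.pullback g).map D.i) * (toUnit X ≫ n)⁻¹ =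
      t ≫ (bcTorusSplit g D).hom.hom.hom ≫ Red.DSmap U (D.P.reflection a).toLinearMap.toAddMonoidHom ≫
        (bcTorusSplit g D).inv.hom.hom ≫ (Over.pullback g).map D.i := by
  obtain ⟨n, hn⟩ := D.refl a
  refine ⟨lift' g (toUnit _ ≫ n), fun X t => (theta_bijective g).injective ?_⟩
  have e : theta g (toUnit X ≫ lift' g (toUnit ((Over.map g).obj (𝟙_ (Over U))) ≫ n)) =
      toUnit ((Over.map g).obj X) ≫ n := by
    rw [theta_comp, theta_lift', ← Category.assoc, toUnit_unique ((Over.map g).map (toUnit X) ≫ toUnit _) (toUnit _)]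
  rw [theta_mul, theta_mul, theta_inv, e, theta_bcI, hn]
  simp only [← Category.assoc, theta_map]
  congr 1
  have hid : D.split.inv.hom.hom ≫ D.split.hom.hom.hom = 𝟙 _ :=
    congrArg (fun k => k.hom.hom) D.split.inv_hom_id
  have hid' : D.split.hom.hom.hom ≫ D.split.inv.hom.hom = 𝟙 _ :=
    congrArg (fun k => k.hom.hom) D.split.hom_inv_id
  have hbid : (bcTorusSplit g D).inv.hom.hom ≫ (bcTorusSplit g D).hom.hom.hom = 𝟙 _ :=
    congrArg (fun k => k.hom.hom) (bcTorusSplit g D).inv_hom_id
  set t' := t ≫ (bcTorusSplit g D).hom.hom.hom ≫ Red.DSmap U (D.P.reflection a).toLinearMap.toAddMonoidHom ≫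
      (bcTorusSplit g D).inv.hom.hom with ht'
  have h : theta g t' ≫ D.split.hom.hom.hom =
      theta g t ≫ D.split.hom.hom.hom ≫ Red.DSmap S (D.P.reflection a).toLinearMap.toAddMonoidHom := ds_ext fun m => by
    rw [← dsVal_bcTorusSplit, ht', ← Category.assoc (theta g t) D.split.hom.hom.hom, dsVal_map, ← dsVal_bcTorusSplit]
    simp only [Category.assoc, hbid, Category.comp_id]
    rw [← Category.assoc, dsVal_map]
  have := congrArg (· ≫ D.split.inv.hom.hom) h
  simp only [Category.assoc, hid', Category.comp_id] at this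
  simp only [ht', Category.assoc] at this ⊢
  exact this.symm

/-- The base change of a splitting, given that the base change is reductive of the same dimension. -/
def bcSplit (hred : Red.IsReductive (Red.bc g G)) (hmax : Red.IsMaximalTorus ((Over.pullback g).map D.i))
    (hdim : ∀ s : U, topologicalKrullDim ↥(Red.geomFibre s (Red.bc g G)).left =
      ((Module.finrank ℤ D.M + Fintype.card D.idx : ℕ) : WithBot ℕ∞)) : Red.SplitRed (Red.bc g G) where
  T := Red.bc g D.T
  i := (Over.pullback g).map D.i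
  M := D.M
  idx := D.idx
  P := D.P
  pairing_eq := D.pairing_eq
  u := bcU g D
  reductive := hred
  maximalTorus := hmax
  split := bcTorusSplit g D
  rootHom := isRootHom_bcU g D
  refl := bcRefl g D
  dim_fibre := hdim

end Groth.Agent.Fibre38
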