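import Groth.Agent.BigCell29.Points
import Groth.Agent.BigCell29.Global
import Groth.Agent.RedRk29.Geom
import Groth.Agent.Rank2Red38.NormalForm

/-! Homomorphisms of split tori over a field are given by maps of characters. -/

set_option autoImplicit false
set_option linter.style.haveILetI false

universe u

open CategoryTheory CategoryTheory.Limits AlgebraicGeometry MonoidalCategory CartesianMonoidalCategory
open scoped MonObj AddMonoidAlgebra

noncomputable section

namespace Groth.Agent.Fibre38

open GrpSchLib BigCell29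

variable {K : Type u} [Field K] {M N : Type} [AddCommGroup M] [AddCommGroup N]

/-- The first inclusion. -/
def inl2 (K : Type u) [Field K] (M : Type) [AddCommGroup M] : K[M] →ₐ[K] K[M × M] :=
  AddMonoidAlgebra.mapDomainAlgHom K K (AddMonoidHom.inl M M)

/-- The second inclusion. -/
def inr2 (K : Type u) [Field K] (M : Type) [AddCommGroup M] : K[M] →ₐ[K] K[M × M] :=
  AddMonoidAlgebra.mapDomainAlgHom K K (AddMonoidHom.inr M M)

/-- The diagonal. -/
def dia2 (K : Type u) [Field K] (M : Type) [AddCommGroup M] : K[M] →ₐ[K] K[M × M] :=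
  AddMonoidAlgebra.mapDomainAlgHom K K ((AddMonoidHom.id M).prod (AddMonoidHom.id M))

theorem coeff_inl_inr (P Q : K[M]) (m m' : M) :
    (inl2 K M P * inr2 K M Q).coeff (m, m') = P.coeff m * Q.coeff m' := by
  classical
  induction P using AddMonoidAlgebra.induction_linear with
  | zero => simp
  | add x y hx hy => simp [add_mul, hx, hy]
  | single a p =>
    induction Q using AddMonoidAlgebra.induction_linear with
    | zero => simp
    | add x y hx hy => simp [mul_add, hx, hy]
    | single b q =>
      simp only [inl2, inr2, AddMonoidAlgebra.mapDomainAlgHom_apply, AddMonoidAlgebra.mapDomain_single,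
        AddMonoidAlgebra.single_mul_single, AddMonoidAlgebra.coeff_single, AddMonoidHom.inl_apply, AddMonoidHom.inr_apply,
        Prod.mk_add_mk, add_zero, zero_add, Finsupp.single_apply, Prod.mk.injEq]
      split_ifs <;> simp_all

theorem coeff_dia (P : K[M]) (m m' : M) [Decidable (m = m')] :
    (dia2 K M P).coeff (m, m') = if m = m' then P.coeff m else 0 := by
  classical
  induction P using AddMonoidAlgebra.induction_linear with
  | zero => simp
  | add x y hx hy => simp only [map_add, AddMonoidAlgebra.coeff_add, Finsupp.add_apply, hx, hy]; split_ifs <;> simp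
  | single a p =>
    simp only [dia2, AddMonoidAlgebra.mapDomainAlgHom_apply, AddMonoidAlgebra.mapDomain_single,
      AddMonoidAlgebra.coeff_single, AddMonoidHom.prod_apply, AddMonoidHom.id_apply, Finsupp.single_apply, Prod.mk.injEq]
    split_ifs <;> grind

/-- Group-like elements of a group algebra over a field are monomials. -/
theorem exists_single {P : K[M]} (h0 : P ≠ 0) (h : dia2 K M P = inl2 K M P * inr2 K M P) :
    ∃ m, P = AddMonoidAlgebra.single m 1 := by
  classical
  have key : ∀ m m', P.coeff m * P.coeff m' = if m = m' then P.coeff m else 0 := fun m m' => by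
    rw [← coeff_inl_inr, ← h, coeff_dia]
  obtain ⟨m, hm⟩ : ∃ m, P.coeff m ≠ 0 := by
    by_contra! hh
    exact h0 (AddMonoidAlgebra.coeff_injective (Finsupp.ext hh))
  refine ⟨m, AddMonoidAlgebra.coeff_injective (Finsupp.ext fun m' => ?_)⟩
  rw [AddMonoidAlgebra.coeff_single, Finsupp.single_apply]
  have h1 := key m m
  rw [if_pos rfl] at h1
  have e1 : P.coeff m = 1 := mul_left_cancel₀ hm (h1.trans (mul_one _).symm)
  split_ifs with e
  · rw [← e, e1]
  · have h2 := key m m'
    rw [if_neg e, e1, one_mul] at h2
    exact h2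

/-- A homomorphism of split tori over a field is given by a map of characters. -/
theorem exists_DSmap (φ : Red.DS (Spec (CommRingCat.of K)) M ⟶ Red.DS (Spec (CommRingCat.of K)) N) [IsMonHom φ] :
    ∃ ψ : N →+ M, φ = Red.DSmap _ ψ := by
  classical
  let f : Spec (CommRingCat.of K) ⟶ Spec (CommRingCat.of K) := 𝟙 _
  obtain ⟨χ, hχ⟩ := (chPt_bijective f).surjective (chPt f (univChar K M) ≫ φ)
  have hnat : ∀ (B : Type u) [CommRing B] [Algebra K B] (e : K[M] →ₐ[K] B),
      chPt f (e.toRingHom.toMonoidHom.comp (univChar K M)) ≫ φ = chPt f (e.toRingHom.toMonoidHom.comp χ) := by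
    intro B _ _ e
    rw [← chPt_map, ← chPt_map, hχ, Category.assoc]
  have hmul : ∀ n, dia2 K M (χ n) = inl2 K M (χ n) * inr2 K M (χ n) := by
    intro n
    have e : (dia2 K M).toRingHom.toMonoidHom.comp (univChar K M) =
        (inl2 K M).toRingHom.toMonoidHom.comp (univChar K M) * (inr2 K M).toRingHom.toMonoidHom.comp (univChar K M) := by
      refine MonoidHom.ext fun m => ?_
      simp [univChar, dia2, inl2, inr2, AddMonoidAlgebra.single_mul_single]
    have h := hnat _ (dia2 K M)
    haveI : IsMonHom φ := ‹_›
    rw [e, chPt_mul, MonObj.mul_comp (g := φ), hnat, hnat, ← chPt_mul] at h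
    exact (DFunLike.congr_fun ((chPt_bijective f).injective h) n).symm
  have hne : ∀ n, χ n ≠ 0 := fun n h0 => by
    have := map_mul χ n n⁻¹
    rw [mul_inv_cancel, map_one, h0, zero_mul] at this
    exact one_ne_zero this
  choose ψ hψ using fun n : N => exists_single (hne (Multiplicative.ofAdd n)) (hmul _)
  have inj := fun {a b : M} (h : (AddMonoidAlgebra.single a (1 : K) : K[M]) = AddMonoidAlgebra.single b 1) =>
    AddMonoidAlgebra.single_left_injective (M := M) (R := K) one_ne_zero h
  refine ⟨AddMonoidHom.mk' ψ fun a b => inj ?_, ?_⟩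
  · rw [← hψ, ofAdd_add, map_mul, hψ, hψ, AddMonoidAlgebra.single_mul_single, one_mul]
  refine RankOne.ext_spec fun B b j => ?_
  obtain ⟨α, rfl⟩ := Spec.map_surjective b
  letI : Algebra K B := α.hom.toAlgebra
  let i : tObj f B ⟶ Over.mk (Spec.map α) := Over.homMk (𝟙 _) (by
    show 𝟙 _ ≫ Spec.map α = Spec.map (CommRingCat.ofHom (algebraMap K B)) ≫ 𝟙 _
    rw [Category.id_comp, Category.comp_id]; rfl)
  haveI : IsIso i.left := inferInstanceAs (IsIso (𝟙 _))
  haveI : Epi i.left := inferInstance
  have hi : Epi i := (Over.forget _).epi_of_epi_map ‹_›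
  rw [← cancel_epi i, ← Category.assoc, ← Category.assoc]
  obtain ⟨c, hc⟩ := (chPt_bijective f).surjective (i ≫ j)
  rw [← hc, RedRk29.chPt_DSmap]
  let e : K[M] →ₐ[K] B := AddMonoidAlgebra.lift K B M c
  have ec : e.toRingHom.toMonoidHom.comp (univChar K M) = c := MonoidHom.ext fun m => by
    simp [e, univChar]
  have h := hnat B e
  rw [ec] at h
  rw [h]
  congr 1
  refine MonoidHom.ext fun n => ?_
  show e (χ n) = c (Multiplicative.ofAdd (ψ n.toAdd))
  rw [show χ n = _ from hψ n.toAdd]
  simp [e]

end Groth.Agent.Fibre38
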