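import Groth.Agent.Rank2Red38.NormalForm
import Groth.Agent.RedRk29.Extremal
import Groth.Agent.BigCell29.Regular

/-! The weights of additive one-parameter families of points are multiples of roots. -/

set_option autoImplicit false
set_option synthInstance.maxHeartbeats 100000

universe u

open CategoryTheory CategoryTheory.Limits AlgebraicGeometry MonoidalCategory CartesianMonoidalCategory WithConv
open scoped MonObj AddMonoidAlgebra

noncomputable section

namespace Groth.Agent.Fibre38

open GrpSchLib BigCell29 Rank2Red38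

variable {S : Scheme.{u}} {G : Over S} [GrpObj G] (E : Red.SplitRed G) (nu : E.M)
  (F : ∀ X : Over S, Γ(X.left, ⊤) → (X ⟶ G))

/-- A family moved by the torus through the character `nu`. -/
structure IsCharFam : Prop where
  nat : ∀ (X X' : Over S) (g : X' ⟶ X) (x : Γ(X.left, ⊤)), g ≫ F X x = F X' (g.left.appTop x)
  equiv : ∀ (X : Over S) (t : X ⟶ E.T) (x : Γ(X.left, ⊤)),
    I E X t * F X x * (I E X t)⁻¹ = F X (dsVal (t ≫ E.split.hom.hom.hom) nu * x)
  zero : ∀ X : Over S, F X 0 = 1

variable {R : Type u} [CommRing R] {f : Spec (CommRingCat.of R) ⟶ S} [IsOpenImmersion f] {A : Type u} [CommRing A]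
  [HopfAlgebra R A] (Md : Model f G A)

include Md in
theorem exists_poly (lam : Module.Dual ℤ E.M) (hnu : 0 < lam nu) (hF : IsCharFam E nu F) (L : List E.idx)
    (hd : L.Nodup) (hpos : ∀ c ∈ L, 0 < lam (E.P.root c)) (hfull : ∀ c, 0 < lam (E.P.root c) → c ∈ L) :
    ∃ p : Fin L.length → Polynomial R, (∀ j, ∀ m ∈ (p j).support, m • nu = E.P.root (L.get j)) ∧
      ∀ (B : Type u) [CommRing B] [Algebra R B] (x : Γ((tObj f B).left, ⊤)), F (tObj f B) x =
        Md.pt ((Md.frame E).prodPt L.get fun j => Polynomial.aeval (tVal f B x) (p j)) := by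
  classical
  set Fr := Md.frame E
  set g : Pt R A (Polynomial R) := Md.ofPt (F (tObj f (Polynomial R)) ((tVal f (Polynomial R)).symm Polynomial.X)) with hg
  have hgen : ∀ (B : Type u) [CommRing B] [Algebra R B] (φ : Polynomial R →ₐ[R] B), Md.pt (mapPt φ g) =
      F (tObj f B) ((tVal f B).symm (φ Polynomial.X)) := fun B _ _ φ => by
    rw [Md.pt_map, hg, Md.pt_ofPt, hF.nat]
    congr 1
    apply (tVal f B).injective
    rw [tVal_map, RingEquiv.apply_symm_apply, RingEquiv.apply_symm_apply]
  let θ : Polynomial R →ₐ[R] (Polynomial R)[E.M] :=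
    Polynomial.aeval (AddMonoidAlgebra.single nu Polynomial.X)
  have hid : E.split.inv.hom.hom ≫ E.split.hom.hom.hom = 𝟙 _ := congrArg (fun k => k.hom.hom) E.split.inv_hom_id
  have hact : Fr.T.coact.act g = mapPt θ g := by
    apply Md.pt_bijective.injective
    rw [Fr.T.act_eq, Md.pt_mul, Md.pt_mul, Md.pt_inv, Md.pt_tor, torG_eq, hgen, hgen, hF.equiv]
    congr 1
    rw [Category.assoc, hid, Category.comp_id, ← gmFn_chi, gmFn_chPt_chi, ← map_mul]
    congr 1
    simp [θ, AddMonoidAlgebra.single_mul_single]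
  set lz := lam.toAddMonoidHom
  have hU : (Fr.cochar lz).InU g := by
    rw [← Coact.isPos_act_iff]
    let θp : Polynomial R →ₐ[R] nonneg R (Polynomial R) := Polynomial.aeval
      ⟨AddMonoidAlgebra.single (lz nu) Polynomial.X, fun m hm => by
        rw [AddMonoidAlgebra.coeff_single, Finsupp.single_apply, if_neg (by
          simp only [lz, LinearMap.toAddMonoidHom_coe]; omega)]⟩
    refine ⟨mapPt θp g, ?_, ?_⟩
    · rw [mapPt_mapPt]
      apply Md.pt_bijective.injective
      rw [hgen, Md.pt_one, ← hF.zero]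
      congr 1
      simp only [AlgHom.comp_apply, θp, Polynomial.aeval_X, ev0_apply, AddMonoidAlgebra.coeff_single,
        Finsupp.single_apply, if_neg hnu.ne', LinearMap.toAddMonoidHom_coe, lz, map_zero]
    · rw [mapPt_mapPt, Coact.act_push, hact, mapPt_mapPt]
      congr 2
      refine Polynomial.algHom_ext ?_
      simp [θp, θ, lz]
  have he : ∀ j, 0 < lz (Fr.root (L.get j)) := fun j => hpos _ (List.get_mem L j)
  obtain ⟨p, hp', -⟩ := Fr.exists_coords (e := L.get) he (List.nodup_iff_injective_get.mp hd)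
    (fun i hi => List.mem_iff_get.mp (hfull i hi)) hU
  have hhom : ∀ j, θ (p j) = AddMonoidAlgebra.single (E.P.root (L.get j)) (p j) := by
    have h1 : mapPt θ g = Fr.prodPt L.get (θ ∘ p) := by rw [← hp', Fr.mapPt_prodPt]
    have h2 : mapPt θ g = Fr.prodPt L.get fun j => AddMonoidAlgebra.single (E.P.root (L.get j)) (p j) := by
      rw [← hact, ← hp', Frame.prodPt, Frame.prodPt, map_list_prod, List.map_ofFn]
      simp [Function.comp_def, Fr.act_rt]
      rfl
    obtain ⟨z, -, hz⟩ := Fr.exists_coords (e := L.get) he (List.nodup_iff_injective_get.mp hd)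
      (fun i hi => List.mem_iff_get.mp (hfull i hi)) (Fr.prodPt_inU lz L.get he (θ ∘ p))
    exact fun j => congrFun ((hz (θ ∘ p) rfl).trans (hz _ (h2.symm.trans h1)).symm) j
  have hθ : ∀ (m : ℕ) (r : R), θ (Polynomial.monomial m r) =
      AddMonoidAlgebra.single (m • nu) (Polynomial.monomial m r) := by
    intro m r
    simp only [θ, Polynomial.aeval_monomial, AddMonoidAlgebra.single_pow]
    rw [← Algebra.smul_def, AddMonoidAlgebra.smul_single]
    congr 1
    rw [Algebra.smul_def, Polynomial.algebraMap_eq, Polynomial.C_mul_X_pow_eq_monomial]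
  have hsupp : ∀ j, ∀ m ∈ (p j).support, m • nu = E.P.root (L.get j) := by
    intro j m hm
    by_contra hne
    have h1 := congrArg (fun z : (Polynomial R)[E.M] => (z.coeff (m • nu)).coeff m) (hhom j)
    rw [show θ (p j) = ∑ m' ∈ (p j).support,
        AddMonoidAlgebra.single (m' • nu) (Polynomial.monomial m' ((p j).coeff m')) by
      conv_lhs => rw [(p j).as_sum_support]
      rw [map_sum]
      exact Finset.sum_congr rfl fun m' _ => hθ _ _] at h1
    simp only [AddMonoidAlgebra.coeff_sum, Finsupp.finsetSum_apply, Polynomial.finsetSum_coeff,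
      AddMonoidAlgebra.coeff_single, Finsupp.single_apply] at h1
    rw [Finset.sum_eq_single m (fun m' _ hm' => by split_ifs <;> simp [Polynomial.coeff_monomial, hm'])
      (fun h => absurd hm h), if_pos rfl, Polynomial.coeff_monomial, if_pos rfl, if_neg (Ne.symm hne)] at h1
    exact Polynomial.mem_support_iff.mp hm (by simpa using h1)
  refine ⟨p, hsupp, fun B _ _ x => ?_⟩
  have h1 := hgen B (Polynomial.aeval (tVal f B x))
  simp only [Polynomial.aeval_X, RingEquiv.symm_apply_apply] at h1
  rw [← h1, ← hp', Fr.mapPt_prodPt]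
  rfl

variable {K : Type u} [Field K]

/-- A family which is not trivial has as weight a rational multiple of a root. -/
theorem exists_root_multiple {G : Over (Spec (CommRingCat.of K))} [GrpObj G] (E : Red.SplitRed G) (nu : E.M)
    (hnu : nu ≠ 0) (F : ∀ X : Over (Spec (CommRingCat.of K)), Γ(X.left, ⊤) → (X ⟶ G)) (hF : IsCharFam E nu F)
    (hne : F (tObj (𝟙 _) K) 1 ≠ 1) : ∃ (e : E.idx) (k : ℕ), E.P.root e = k • nu := by
  classical
  haveI : IsAffineHom G.hom := E.reductive.1
  obtain ⟨A, _, _, ⟨Md⟩⟩ := exists_model (R := K) (𝟙 (Spec (CommRingCat.of K))) G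
  obtain ⟨l0, hl0⟩ := exists_int_functional (v := fun _ : Unit => nu)
    (linearIndependent_unique_iff.mpr hnu)
  obtain ⟨lam0, h1, h2⟩ := RedRk29.exists_perturb l0 ((Set.finite_range E.P.root).insert nu)
  let lam := lam0.toIntLinearMap
  let L := (Finset.univ.filter fun c => 0 < lam (E.P.root c)).toList
  obtain ⟨p, hp, hval⟩ := exists_poly E nu F Md lam (h2 _ (Set.mem_insert _ _) (hl0 ())) hF L (Finset.nodup_toList _)
    (fun c hc => by simpa [L] using hc) (fun c hc => by simpa [L] using hc)
  by_contra hh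
  push Not at hh
  refine hne ?_
  rw [hval, ← Md.pt_one]
  congr 1
  refine List.prod_eq_one fun v hv => ?_
  obtain ⟨j, rfl⟩ := List.mem_ofFn.mp hv
  have hz : p j = 0 := by
    rw [← Polynomial.support_eq_empty]
    exact Finset.eq_empty_of_forall_notMem fun m hm => hh (L.get j) m (hp j m hm).symm
  simp only [hz, map_zero, PreFrame.rt_zero]

end Groth.Agent.Fibre38
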