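import Groth.Agent.Fibre38.CharHom
import Groth.Agent.Fibre38.Weight
import Groth.Agent.AGFRoot.MaxTorusConj
import Groth.Agent.MaxTorusLib.Basic
import Groth.Agent.RedRk29.RankOneGlue
import Groth.Agent.Rank2Red38.Cell3
import Groth.Agent.Twin38.Iso

/-! The root datum of a split reductive group over an algebraically closed field is unique. -/

set_option autoImplicit false
set_option linter.style.haveILetI false

universe u

open CategoryTheory CategoryTheory.Limits AlgebraicGeometry MonoidalCategory CartesianMonoidalCategory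
open scoped MonObj AddMonoidAlgebra

noncomputable section

namespace Groth.Agent.Fibre38

open GrpSchLib BigCell29 Rank2Red38

variable {K : Type u} [Field K] [IsAlgClosed K] {G : Over (Spec (CommRingCat.of K))} [GrpObj G]

theorem facts (hG : Red.IsReductive G) : IsAffine G.left ∧ Smooth G.hom ∧ ConnectedSpace G.left := by
  obtain ⟨hA, hS, hF⟩ := hG
  haveI := hA
  obtain ⟨s⟩ : Nonempty (Spec (CommRingCat.of K)) := inferInstanceAs (Nonempty (PrimeSpectrum K))
  refine ⟨isAffine_of_isAffineHom G.hom, hS, ?_⟩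
  haveI := MaxTorusLib.isIso_geomPt s
  haveI : ConnectedSpace ↥(pullback G.hom (Red.geomPt s)) := (hF s).2.2.1
  exact (Scheme.homeoOfIso (asIso (pullback.fst G.hom (Red.geomPt s)))).surjective.connectedSpace
    (Scheme.homeoOfIso (asIso (pullback.fst G.hom (Red.geomPt s)))).continuous

theorem isMaxTorus {T : Over (Spec (CommRingCat.of K))} [GrpObj T] {i : T ⟶ G} (h : Red.IsMaximalTorus i) :
    AGF.IsMaxTorus i := by
  obtain ⟨hh, hm, hT, hmax⟩ := h
  refine ⟨hh, hm, hT, fun T' _ j _ _ f hT' hf => ?_⟩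
  obtain ⟨s⟩ : Nonempty (Spec (CommRingCat.of K)) := inferInstanceAs (Nonempty (PrimeSpectrum K))
  haveI := MaxTorusLib.isIso_geomPt s
  haveI : (Over.pullback (Red.geomPt s)).PreservesMonomorphisms :=
    Functor.preservesMonomorphisms_of_adjunction (Over.mapPullbackAdj (Red.geomPt s))
  refine MaxTorusLib.isIso_of_map_isIso (Red.geomPt s) f ?_
  exact hmax s _ ((Over.pullback (Red.geomPt s)).map j) _ (RedSub30.TorusAbsorb.isTorus_bc _ hT')
    (by rw [← Functor.map_comp, hf])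

/-- An automorphism of the group carrying one split torus to the other, with the map of characters. -/
structure Conn (D E : Red.SplitRed G) where
  phi : G ⟶ G
  [hom : IsMonHom phi]
  phi_inj : ∀ (X : Over (Spec (CommRingCat.of K))) (p q : X ⟶ G), p ≫ phi = q ≫ phi → p = q
  psi : E.M →+ D.M
  psi_bij : Function.Bijective psi
  hI : ∀ (X : Over (Spec (CommRingCat.of K))) (t' : X ⟶ E.T), ∃ t : X ⟶ D.T,
    I D X t ≫ phi = I E X t' ∧ ∀ m, dsVal (t' ≫ E.split.hom.hom.hom) m = dsVal (t ≫ D.split.hom.hom.hom) (psi m)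
  hI' : ∀ (X : Over (Spec (CommRingCat.of K))) (t : X ⟶ D.T), ∃ t' : X ⟶ E.T,
    I D X t ≫ phi = I E X t' ∧ ∀ m, dsVal (t' ≫ E.split.hom.hom.hom) m = dsVal (t ≫ D.split.hom.hom.hom) (psi m)

attribute [instance] Conn.hom

theorem DSmap_injective {M N : Type} [AddCommGroup M] [AddCommGroup N] {p q : N →+ M}
    (h : Red.DSmap (Spec (CommRingCat.of K)) p = Red.DSmap (Spec (CommRingCat.of K)) q) : p = q := by
  have h1 := congrArg (chPt (𝟙 (Spec (CommRingCat.of K))) (univChar K M) ≫ ·) h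
  simp only [RedRk29.chPt_DSmap] at h1
  have h2 := (chPt_bijective (𝟙 (Spec (CommRingCat.of K)))).injective h1
  refine AddMonoidHom.ext fun n => ?_
  have h3 := DFunLike.congr_fun h2 (Multiplicative.ofAdd n)
  simp only [MonoidHom.comp_apply, univChar, AddMonoidAlgebra.of_apply] at h3
  exact AddMonoidAlgebra.single_left_injective (M := M) (R := K) one_ne_zero h3

/-- Two splittings are connected by a conjugation, in both directions. -/
theorem exists_conn (D E : Red.SplitRed G) :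
    ∃ (C : Conn D E) (C' : Conn E D), ∀ m, C.psi (C'.psi m) = m := by
  obtain ⟨hA, hS, hC⟩ := facts D.reductive
  haveI := hA; haveI := hS; haveI := hC
  obtain ⟨g, f, hf⟩ := AGFRoot.SolvSch.maxTorus_conj (isMaxTorus D.maximalTorus) (isMaxTorus E.maximalTorus)
  haveI := D.maximalTorus.1
  haveI := E.maximalTorus.1
  haveI := E.maximalTorus.2.1
  haveI := D.maximalTorus.2.1
  haveI : IsMonHom f.hom := AGFRoot.SolvSch.isMonHom_of_mono E.i f.hom (AGF.conjBy g D.i) hf
  let phi := AGF.conjBy g (𝟙 G)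
  let phi' := AGF.conjBy g⁻¹ (𝟙 G)
  have e1 : phi ≫ phi' = 𝟙 G := by
    show AGF.conjBy g (𝟙 G) ≫ AGF.conjBy g⁻¹ (𝟙 G) = _
    rw [← AGFRoot.conjBy_eq_comp, AGFRoot.conjBy_inv_cancel']
  have e2 : phi' ≫ phi = 𝟙 G := by
    show AGF.conjBy g⁻¹ (𝟙 G) ≫ AGF.conjBy g (𝟙 G) = _
    rw [← AGFRoot.conjBy_eq_comp, AGFRoot.conjBy_inv_cancel]
  have hfD : D.i ≫ phi = f.hom ≫ E.i := by rw [hf]; exact (AGFRoot.conjBy_eq_comp g D.i).symm
  have hfE : E.i ≫ phi' = f.inv ≫ D.i := by
    rw [← cancel_epi f.hom, ← Category.assoc, ← hfD, Category.assoc, e1, Category.comp_id, Iso.hom_inv_id_assoc]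
  haveI : IsMonHom D.split.inv.hom.hom := D.split.inv.hom.isMonHom_hom
  haveI : IsMonHom E.split.inv.hom.hom := E.split.inv.hom.isMonHom_hom
  haveI : IsMonHom D.split.hom.hom.hom := D.split.hom.hom.isMonHom_hom
  haveI : IsMonHom E.split.hom.hom.hom := E.split.hom.hom.isMonHom_hom
  obtain ⟨psi, hpsi⟩ := exists_DSmap (D.split.inv.hom.hom ≫ f.hom ≫ E.split.hom.hom.hom)
  haveI : IsMonHom f.inv := inferInstance
  obtain ⟨psi', hpsi'⟩ := exists_DSmap (E.split.inv.hom.hom ≫ f.inv ≫ D.split.hom.hom.hom)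
  have hD : D.split.hom.hom.hom ≫ D.split.inv.hom.hom = 𝟙 _ := congrArg (fun k => k.hom.hom) D.split.hom_inv_id
  have hE : E.split.hom.hom.hom ≫ E.split.inv.hom.hom = 𝟙 _ := congrArg (fun k => k.hom.hom) E.split.hom_inv_id
  have hD' : D.split.inv.hom.hom ≫ D.split.hom.hom.hom = 𝟙 _ := congrArg (fun k => k.hom.hom) D.split.inv_hom_id
  have hE' : E.split.inv.hom.hom ≫ E.split.hom.hom.hom = 𝟙 _ := congrArg (fun k => k.hom.hom) E.split.inv_hom_id
  have v : ∀ (X : Over (Spec (CommRingCat.of K))) (t : X ⟶ D.T) (m : E.M),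
      dsVal ((t ≫ f.hom) ≫ E.split.hom.hom.hom) m = dsVal (t ≫ D.split.hom.hom.hom) (psi m) := fun X t m => by
    rw [← dsVal_map, ← hpsi]
    simp only [Category.assoc, reassoc_of% hD]
  have v' : ∀ (X : Over (Spec (CommRingCat.of K))) (t : X ⟶ E.T) (m : D.M),
      dsVal ((t ≫ f.inv) ≫ D.split.hom.hom.hom) m = dsVal (t ≫ E.split.hom.hom.hom) (psi' m) := fun X t m => by
    rw [← dsVal_map, ← hpsi']
    simp only [Category.assoc, reassoc_of% hE]
  have c1 : psi.comp psi' = AddMonoidHom.id D.M := DSmap_injective (K := K) (by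
    rw [← SgaFix20.DSmap_comp, SgaFix20.DSmap_id, ← hpsi, ← hpsi']
    simp only [Category.assoc, reassoc_of% hE, Iso.hom_inv_id_assoc, hD'])
  have c2 : psi'.comp psi = AddMonoidHom.id E.M := DSmap_injective (K := K) (by
    rw [← SgaFix20.DSmap_comp, SgaFix20.DSmap_id, ← hpsi, ← hpsi']
    simp only [Category.assoc, reassoc_of% hD, Iso.inv_hom_id_assoc, hE'])
  have l1 : ∀ m, psi (psi' m) = m := fun m => DFunLike.congr_fun c1 m
  have l2 : ∀ m, psi' (psi m) = m := fun m => DFunLike.congr_fun c2 m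
  have i1 : ∀ (X : Over (Spec (CommRingCat.of K))) (t : X ⟶ D.T), I D X t ≫ phi = I E X (t ≫ f.hom) := fun X t => by
    show (t ≫ D.i) ≫ phi = (t ≫ f.hom) ≫ E.i
    rw [Category.assoc, hfD, ← Category.assoc]
  have i2 : ∀ (X : Over (Spec (CommRingCat.of K))) (t : X ⟶ E.T), I E X t ≫ phi' = I D X (t ≫ f.inv) := fun X t => by
    show (t ≫ E.i) ≫ phi' = (t ≫ f.inv) ≫ D.i
    rw [Category.assoc, hfE, ← Category.assoc]
  let C : Conn D E :=
    { phi := phi
      hom := AGFRoot.isMonHom_conjBy g (𝟙 G)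
      phi_inj := fun X p q h => by
        have := congrArg (· ≫ phi') h
        simpa only [Category.assoc, e1, Category.comp_id] using this
      psi := psi
      psi_bij := Function.bijective_iff_has_inverse.mpr ⟨psi', l2, l1⟩
      hI := fun X t => ⟨t ≫ f.inv, by rw [i1, Category.assoc, Iso.inv_hom_id, Category.comp_id], fun m => by
        have := v X (t ≫ f.inv) m
        rwa [Category.assoc t, Iso.inv_hom_id, Category.comp_id] at this⟩
      hI' := fun X t => ⟨t ≫ f.hom, i1 X t, v X t⟩ }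
  let C' : Conn E D :=
    { phi := phi'
      hom := AGFRoot.isMonHom_conjBy g⁻¹ (𝟙 G)
      phi_inj := fun X p q h => by
        have := congrArg (· ≫ phi) h
        simpa only [Category.assoc, e2, Category.comp_id] using this
      psi := psi'
      psi_bij := Function.bijective_iff_has_inverse.mpr ⟨psi, l1, l2⟩
      hI := fun X t => ⟨t ≫ f.hom, by rw [i2, Category.assoc, Iso.hom_inv_id, Category.comp_id], fun m => by
        have := v' X (t ≫ f.hom) m
        rwa [Category.assoc t, Iso.hom_inv_id, Category.comp_id] at this⟩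
      hI' := fun X t => ⟨t ≫ f.inv, i2 X t, v' X t⟩ }
  exact ⟨C, C', l1⟩

variable {D E : Red.SplitRed G} (C : Conn D E)

/-- The image of a root group. -/
def Conn.fam (a : D.idx) (X : Over (Spec (CommRingCat.of K))) (x : Γ(X.left, ⊤)) : X ⟶ G := U D X a x ≫ C.phi

theorem Conn.fam_nat (a : D.idx) {X X' : Over (Spec (CommRingCat.of K))} (g : X' ⟶ X) (x : Γ(X.left, ⊤)) :
    g ≫ C.fam a X x = C.fam a X' (g.left.appTop x) := by
  rw [Conn.fam, ← Category.assoc, comp_U]
  rfl

theorem Conn.fam_conj {a : D.idx} {mu : E.M} (hmu : C.psi mu = D.P.root a) (X : Over (Spec (CommRingCat.of K)))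
    (t : X ⟶ E.T) (x : Γ(X.left, ⊤)) :
    I E X t * C.fam a X x * (I E X t)⁻¹ = C.fam a X (dsVal (t ≫ E.split.hom.hom.hom) mu * x) := by
  obtain ⟨s, hs, hv⟩ := C.hI X t
  rw [hv, hmu, ← rootVal_apply, Conn.fam, ← hs, ← GrpObj.inv_comp, ← MonObj.mul_comp, ← MonObj.mul_comp, conj_U]
  rfl

theorem Conn.fam_zero (a : D.idx) (X : Over (Spec (CommRingCat.of K))) : C.fam a X 0 = 1 := by
  rw [Conn.fam, (U_oneParam D (X := X) a).zero, MonObj.one_comp]

theorem Conn.fam_one_ne (a : D.idx) : C.fam a (tObj (𝟙 _) K) 1 ≠ 1 := by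
  intro h
  rw [← C.fam_zero a] at h
  obtain ⟨lam, hgen, hpos⟩ := RedRk29.exists_generic_pos D a
  have h1 := (hasNormalForm D).mono hgen hpos (C.phi_inj _ _ _ h)
  have h2 := congrArg (tVal (𝟙 (Spec (CommRingCat.of K))) K) h1
  rw [map_one, map_zero] at h2
  exact one_ne_zero h2

theorem Conn.exists_root (C' : Conn E D) (hcc : ∀ m, C.psi (C'.psi m) = m) (a : D.idx) :
    ∃ e, C.psi (E.P.root e) = D.P.root a := by
  haveI : Nonempty (Spec (CommRingCat.of K)) := inferInstanceAs (Nonempty (PrimeSpectrum K))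
  have key : ∀ {D E : Red.SplitRed G} (C : Conn D E) (a : D.idx),
      ∃ (e : E.idx) (k : ℕ), C.psi (E.P.root e) = k • D.P.root a := by
    intro D E C a
    obtain ⟨mu, hmu⟩ := C.psi_bij.surjective (D.P.root a)
    obtain ⟨e, k, he⟩ := exists_root_multiple E mu
      (fun h0 => D.P.ne_zero a (by rw [← hmu, h0, map_zero])) (C.fam a)
      ⟨fun X X' g x => C.fam_nat a g x, fun X t x => C.fam_conj hmu X t x, C.fam_zero a⟩ (C.fam_one_ne a)
    exact ⟨e, k, by rw [he, map_nsmul, hmu]⟩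
  obtain ⟨e, k, he⟩ := key C a
  obtain ⟨a', k', ha'⟩ := key C' e
  have h1 : D.P.root a' = (k' * k) • D.P.root a := by
    have := congrArg C.psi ha'
    rw [hcc, map_nsmul, he, smul_smul] at this
    exact this
  have hk := RedRk29.red1 D a a' (k' * k) h1
  exact ⟨e, by rw [he, (mul_eq_one.mp hk).2, one_smul]⟩

theorem exists_rule (D : Red.SplitRed G) (a : D.idx) : ∃ c : Γ(Spec (CommRingCat.of K), ⊤)ˣ,
    ∀ (X : Over (Spec (CommRingCat.of K))) (x y : Γ(X.left, ⊤)) (z : Γ(X.left, ⊤)ˣ),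
      (z : Γ(X.left, ⊤)) = 1 + glob X (c : Γ(Spec (CommRingCat.of K), ⊤)) * x * y →
      U D X a x * U D X (neg' D a) y = U D X (neg' D a) (((z⁻¹ : Γ(X.left, ⊤)ˣ) : Γ(X.left, ⊤)) * y) *
        I D X (av D X a z) * U D X a (((z⁻¹ : Γ(X.left, ⊤)ˣ) : Γ(X.left, ⊤)) * x) := by
  obtain ⟨c, hc⟩ := RedRk29.exists_isDualPair D a
  refine ⟨c, fun X x y z hz => ?_⟩
  obtain ⟨x', y', w, hw, hx', hy', h⟩ := hc X (GaPts.ptOfFn x) (GaPts.ptOfFn y) (by
    simp only [GaPts.gaFn_ptOfFn]; exact hz ▸ z.isUnit)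
  simp only [GaPts.gaFn_ptOfFn] at hw hx' hy'
  have hwz : Red.gmFn w = (z : Γ(X.left, ⊤)) := hw.trans hz.symm
  rw [hwz] at hx' hy'
  have ew : GmPts.ptOfUnit z = w := GmPts.gmFn_injective (by
    show Red.gmFn _ = Red.gmFn _
    rw [hwz, ← GmPts.val_unitOfPt, GmPts.unitOfPt_ptOfUnit])
  rw [← ew, pt_comp_eq D (RedRk29.negIdx D a) y', pt_comp_eq D a x',
    show Red.gaFn x' = ((z⁻¹ : Γ(X.left, ⊤)ˣ) : Γ(X.left, ⊤)) * x from
      (by rw [← hx']; rw [mul_comm (Red.gaFn x'), Units.inv_mul_cancel_left]),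
    show Red.gaFn y' = ((z⁻¹ : Γ(X.left, ⊤)ˣ) : Γ(X.left, ⊤)) * y from
      (by rw [← hy']; rw [mul_comm (Red.gaFn y'), Units.inv_mul_cancel_left])] at h
  refine h.trans ?_
  show _ * ((GmPts.ptOfUnit z : X ⟶ Red.Gm _) ≫ _) * _ = _ * ((GmPts.ptOfUnit z ≫ corootHom D a) ≫ D.i) * _
  simp only [corootHom, Category.assoc]

theorem Conn.exists_coord {a : D.idx} {e : E.idx} (he : C.psi (E.P.root e) = D.P.root a) :
    ∃ k : Γ(Spec (CommRingCat.of K), ⊤), IsUnit k ∧
      ∀ (X : Over (Spec (CommRingCat.of K))) (x : Γ(X.left, ⊤)), C.fam a X x = U E X e (glob X k * x) := by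
  haveI : Nonempty (Spec (CommRingCat.of K)) := inferInstanceAs (Nonempty (PrimeSpectrum K))
  obtain ⟨lam, hgen, hpos⟩ := RedRk29.exists_generic_pos E e
  have hF : IsWeighted E (fun _ : Fin 1 => e) (fun X x => C.fam a X (x 0)) :=
    ⟨fun X X' g x => C.fam_nat a g (x 0), fun X t x => by
      show I E X t * C.fam a X (x 0) * (I E X t)⁻¹ = C.fam a X (_ * x 0)
      rw [C.fam_conj he, rootVal_apply], fun X => C.fam_zero a X⟩
  obtain ⟨c, hc⟩ := (hasNormalForm E).exists_coord lam hgen 1 _ (fun _ => hpos) _ hF [e]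
    (List.nodup_singleton _) (fun d hd => by rw [List.mem_singleton.mp hd]; exact hpos) (fun _ _ => 1) (fun d m hdm => by
      rw [Fin.sum_univ_one] at hdm
      have h1 := RedRk29.red1 E e d (m 0) hdm
      rw [h1, one_smul] at hdm
      exact ⟨by simp [E.P.root.injective hdm], funext fun k => by rw [Fin.eq_zero k, h1]⟩)
  have hv : ∀ (X : Over (Spec (CommRingCat.of K))) (x : Γ(X.left, ⊤)), C.fam a X x = U E X e (glob X (c e) * x) :=
    fun X x => by
      have := hc X fun _ => x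
      simpa [rootProd] using this
  refine ⟨c e, ?_, hv⟩
  let k : Γ(Spec (CommRingCat.of K), ⊤) ≃+* K := (Scheme.ΓSpecIso (CommRingCat.of K)).commRingCatIsoToRingEquiv
  by_cases h0 : c e = 0
  · exact absurd (by rw [hv, h0, map_zero, zero_mul, (U_oneParam E (X := tObj (𝟙 _) K) e).zero]) (C.fam_one_ne a)
  · have := (isUnit_iff_ne_zero.mpr fun h => h0 (k.injective (h.trans (map_zero k).symm))).map k.symm
    rwa [RingEquiv.symm_apply_apply] at this

theorem neg_psi {a : D.idx} {e : E.idx} (he : C.psi (E.P.root e) = D.P.root a) :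
    C.psi (E.P.root (neg' E e)) = D.P.root (neg' D a) := by rw [root_neg', root_neg', map_neg, he]

theorem dsVal_av' (D : Red.SplitRed G) {X : Over (Spec (CommRingCat.of K))} (a : D.idx) (z : Γ(X.left, ⊤)ˣ) (m : D.M) :
    dsVal (av D X a z ≫ D.split.hom.hom.hom) m = ((z ^ D.P.coroot a m : Γ(X.left, ⊤)ˣ) : Γ(X.left, ⊤)) := by
  show dsVal ((GmPts.ptOfUnit z ≫ corootHom D a) ≫ D.split.hom.hom.hom) m = _
  simp only [corootHom, Category.assoc]
  rw [show D.split.inv.hom.hom ≫ D.split.hom.hom.hom = 𝟙 _ from congrArg (fun k => k.hom.hom) D.split.inv_hom_id,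
    Category.comp_id, dsVal_map, dsVal_gm, GmPts.unitOfPt_ptOfUnit]
  rfl

theorem Conn.coroot_eq {a : D.idx} {e : E.idx} (he : C.psi (E.P.root e) = D.P.root a) (m : E.M) :
    E.P.coroot e m = D.P.coroot a (C.psi m) := by
  classical
  let f : Spec (CommRingCat.of K) ⟶ Spec (CommRingCat.of K) := 𝟙 _
  obtain ⟨k, hk, hv⟩ := C.exists_coord he
  obtain ⟨k', hk', hv'⟩ := C.exists_coord (neg_psi C he)
  obtain ⟨cD, hcD⟩ := exists_rule D a
  obtain ⟨cE, hcE⟩ := exists_rule E e
  obtain ⟨k, rfl⟩ := hk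
  obtain ⟨k', rfl⟩ := hk'
  set kk : Γ(Spec (CommRingCat.of K), ⊤) := (cE : _) * k * k'
  have main : ∀ (X : Over (Spec (CommRingCat.of K))) (y : Γ(X.left, ⊤)) (z z' : Γ(X.left, ⊤)ˣ),
      (z : Γ(X.left, ⊤)) = 1 + glob X (cD : Γ(Spec (CommRingCat.of K), ⊤)) * y →
      (z' : Γ(X.left, ⊤)) = 1 + glob X kk * y →
      z = z' ∧ ∀ m, ((z ^ D.P.coroot a (C.psi m) : Γ(X.left, ⊤)ˣ) : Γ(X.left, ⊤)) = ((z' ^ E.P.coroot e m : Γ(X.left, ⊤)ˣ) : Γ(X.left, ⊤)) := by
    intro X y z z' hz hz'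
    have r1 := congrArg (· ≫ C.phi) (hcD X 1 y z (by rw [hz, mul_one]))
    simp only [MonObj.mul_comp] at r1
    obtain ⟨t', ht', hval⟩ := C.hI' X (av D X a z)
    rw [ht'] at r1
    change C.fam a X _ * C.fam (neg' D a) X _ = C.fam (neg' D a) X _ * _ * C.fam a X _ at r1
    rw [hv, hv, hv', hv', mul_one] at r1
    have r2 := hcE X (glob X (k : Γ(Spec (CommRingCat.of K), ⊤))) (glob X (k' : Γ(Spec (CommRingCat.of K), ⊤)) * y) z'
      (by rw [hz', map_mul, map_mul]; ring)
    obtain ⟨-, ht, hx⟩ := cell3_inj E e (r1.symm.trans r2)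
    refine ⟨inv_inj.mp (Units.ext ?_), fun m => ?_⟩
    · rw [mul_one, mul_comm (((z'⁻¹ : Γ(X.left, ⊤)ˣ) : Γ(X.left, ⊤)))] at hx
      exact (k.isUnit.map (glob X)).mul_right_inj.mp hx
    · rw [← dsVal_av', ← dsVal_av', ← hval, ht]
  have hkk : (cD : Γ(Spec (CommRingCat.of K), ⊤)) = kk := by
    let X := tObj f (DualNumber K)
    let y : Γ(X.left, ⊤) := (tVal f (DualNumber K)).symm DualNumber.eps
    have hny : IsNilpotent y :=
      (show IsNilpotent (DualNumber.eps : DualNumber K) from ⟨2, by rw [sq, DualNumber.eps_mul_eps]⟩).map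
        (tVal f (DualNumber K)).symm
    have hu : ∀ c : Γ(X.left, ⊤), IsUnit (1 + c * y) := fun c =>
      (Commute.isNilpotent_mul_left (Commute.all _ _) hny).isUnit_one_add
    obtain ⟨z, hz⟩ := hu (glob X cD)
    obtain ⟨z', hz'⟩ := hu (glob X kk)
    have h := congrArg Units.val (main X y z z' hz hz').1
    rw [hz, hz'] at h
    have h3 := congrArg (fun w => TrivSqZeroExt.snd (tVal f (DualNumber K) w)) (add_left_cancel h)
    simp only [map_mul, y, RingEquiv.apply_symm_apply, X, tVal_glob, RedRk29.snd_C_eps] at h3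
    refine ((Scheme.ΓSpecIso (CommRingCat.of K)).commRingCatIsoToRingEquiv).injective ?_
    show (Scheme.ΓSpecIso (CommRingCat.of K)).hom _ = (Scheme.ΓSpecIso (CommRingCat.of K)).hom _
    simpa [resTo, f] using h3
  let B := K[ℤ]
  let X := tObj f B
  let T : Γ(X.left, ⊤)ˣ := Units.map (tVal f B).symm.toMonoidHom
    ⟨AddMonoidAlgebra.single 1 1, AddMonoidAlgebra.single (-1) 1,
      by rw [AddMonoidAlgebra.single_mul_single, add_neg_cancel, mul_one]; rfl,
      by rw [AddMonoidAlgebra.single_mul_single, neg_add_cancel, mul_one]; rfl⟩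
  let y : Γ(X.left, ⊤) := glob X ((cD⁻¹ : Γ(Spec (CommRingCat.of K), ⊤)ˣ) : Γ(Spec (CommRingCat.of K), ⊤)) * (↑T - 1)
  have hT : (T : Γ(X.left, ⊤)) = 1 + glob X (cD : Γ(Spec (CommRingCat.of K), ⊤)) * y := by
    simp only [y, ← mul_assoc, ← map_mul, Units.mul_inv, map_one, one_mul, add_sub_cancel]
  have h := (main X y T T hT (hkk ▸ hT)).2 m
  have hpow : ∀ n : ℤ, tVal f B ((T ^ n : Γ(X.left, ⊤)ˣ) : Γ(X.left, ⊤)) = AddMonoidAlgebra.single n (1 : K) := by
    have h1 : tVal f B (T : Γ(X.left, ⊤)) = AddMonoidAlgebra.single 1 (1 : K) := (tVal f B).apply_symm_apply _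
    have h2 : tVal f B ((T⁻¹ : Γ(X.left, ⊤)ˣ) : Γ(X.left, ⊤)) = AddMonoidAlgebra.single (-1) (1 : K) :=
      (tVal f B).apply_symm_apply _
    intro n
    rcases n with n | n
    · rw [Int.ofNat_eq_natCast, zpow_natCast, Units.val_pow_eq_pow_val, map_pow, h1, AddMonoidAlgebra.single_pow]
      simp
    · rw [zpow_negSucc, ← inv_pow, Units.val_pow_eq_pow_val, map_pow, h2, AddMonoidAlgebra.single_pow]
      simp [Int.negSucc_eq]
  have h' := congrArg (tVal f B) h
  rw [hpow, hpow] at h'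
  exact (AddMonoidAlgebra.single_left_injective (M := ℤ) (R := K) one_ne_zero h').symm

/-- The root data of two splittings over an algebraically closed field are isomorphic. -/
theorem nonempty_equiv (D E : Red.SplitRed G) : Nonempty (RootPairing.Equiv E.P D.P) := by
  classical
  obtain ⟨C, C', hcc⟩ := exists_conn D E
  have hcc' : ∀ m, C'.psi (C.psi m) = m := fun m => C.psi_bij.injective (hcc _)
  choose r hr using C.exists_root C' hcc
  choose r' hr' using C'.exists_root C hcc'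
  have hl : ∀ a, r' (r a) = a := fun a => D.P.root.injective (by
    rw [← hr a, ← hr' (r a), hcc])
  have hr2 : ∀ e, r (r' e) = e := fun e => E.P.root.injective (by
    rw [← hr' e, ← hr (r' e), hcc'])
  let w : E.M →ₗ[ℤ] D.M := C.psi.toIntLinearMap
  let idx : E.idx ≃ D.idx := ⟨r', r, hr2, hl⟩
  refine ⟨{ weightMap := w, coweightMap := w.dualMap, indexEquiv := idx, weight_coweight_transpose := ?_,
            root_weightMap := ?_, coroot_coweightMap := ?_, bijective_weightMap := C.psi_bij,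
            bijective_coweightMap := (LinearEquiv.ofBijective w C.psi_bij).dualMap.bijective }⟩
  · refine LinearMap.ext fun n => ?_
    show w.dualMap (D.P.flip.toPerfPair n) = E.P.flip.toPerfPair (w.dualMap n)
    rw [Twin38.Twist.flip_toPerfPair (D := D), Twin38.Twist.flip_toPerfPair (D := E)]
  · funext e
    show C.psi (E.P.root e) = D.P.root (r' e)
    rw [← hr' e, hcc]
  · funext a
    refine LinearMap.ext fun m => ?_
    show D.P.coroot a (C.psi m) = E.P.coroot (r a) m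
    rw [C.coroot_eq (hr a)]

end Groth.Agent.Fibre38
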